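import Cfsg.Agent.TwoESix.RootsInst

/-!
# Canonical lifts of root involutions in central extensions (S2491, QS row F4, box P4a; helper584)

`BabyU/Lab.lean` treats double covers.  Here `π : L →* E` is any surjection with central kernel, `R : Roots E T`, and the
centralisers of the root involutions are perfect (`Cen`).  `w π T r` (`BabyU.Lab.w`) is the canonical lift.

* `commute_lift` : a lift of a root involution commutes with the lifts of the elements of its centraliser;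
* `map_w`, `w_conj`, `w_sq`, `w_comm`, `w_line` : the properties of the canonical lift;
* `cen_root` : the instance `²E₆(2)`.
-/

set_option autoImplicit false

namespace Cfsg.Agent.H584.F4.Can

open Cfsg.Agent.BabyU.Lab
open scoped commutatorElement

section

variable {L E : Type*} [Group L] [Group E] {π : L →* E} {T : Set E}

/-- a surjection with central kernel onto a group with root involutions whose centralisers are perfect -/
structure Cen (π : L →* E) (T : Set E) : Prop where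
  surj : Function.Surjective π
  cen : ∀ z : L, π z = 1 → ∀ m : L, m * z = z * m
  roots : Roots E T
  perf : ∀ r ∈ T, ⁅Subgroup.centralizer ({r} : Set E), Subgroup.centralizer ({r} : Set E)⁆ =
    Subgroup.centralizer ({r} : Set E)

variable (C : Cen π T)

include C

theorem comm_eq {a b a' b' : L} (ha : π a = π a') (hb : π b = π b') : ⁅a, b⁆ = ⁅a', b'⁆ := by
  have key : ∀ z x y : L, π z = 1 → ⁅z * x, y⁆ = ⁅x, y⁆ := by
    intro z x y hz
    have hc := C.cen z hz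
    rw [commutatorElement_def, commutatorElement_def, mul_inv_rev]
    have h1 : z * x * y * (x⁻¹ * z⁻¹) * y⁻¹ = z * (x * y * x⁻¹) * z⁻¹ * y⁻¹ := by group
    rw [h1, ← hc, mul_inv_cancel_right]
  have key2 : ∀ z x y : L, π z = 1 → ⁅x, z * y⁆ = ⁅x, y⁆ := by
    intro z x y hz
    rw [← commutatorElement_inv, key z _ _ hz, commutatorElement_inv]
  have e1 : a = (a * a'⁻¹) * a' := by group
  have e2 : b = (b * b'⁻¹) * b' := by group
  rw [e1, e2, key _ _ _ (by rw [map_mul, map_inv, ha, mul_inv_cancel]),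
    key2 _ _ _ (by rw [map_mul, map_inv, hb, mul_inv_cancel])]

/-- **Lifts of commuting elements commute if one of them is a root involution.** -/
theorem commute_lift {x y : L} (hx : π x ∈ T) (h : π x * π y = π y * π x) : x * y = y * x := by
  have hle : Subgroup.centralizer ({π x} : Set E) ≤ (Subgroup.centralizer ({x} : Set L)).map π := by
    rw [← C.perf _ hx, Subgroup.commutator_le]
    intro a ha b hb
    obtain ⟨a, rfl⟩ := C.surj a
    obtain ⟨b, rfl⟩ := C.surj b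
    refine ⟨⁅a, b⁆, ?_, map_commutatorElement π a b⟩
    rw [SetLike.mem_coe, Subgroup.mem_centralizer_singleton_iff]
    have h1 : ∀ c : L, π c ∈ Subgroup.centralizer ({π x} : Set E) → π (x * c * x⁻¹) = π c := by
      intro c hc
      rw [Subgroup.mem_centralizer_singleton_iff] at hc
      rw [map_mul, map_mul, map_inv, ← hc, mul_inv_cancel_right]
    have h2 : x * ⁅a, b⁆ * x⁻¹ = ⁅a, b⁆ := by
      have h3 : x * ⁅a, b⁆ * x⁻¹ = ⁅x * a * x⁻¹, x * b * x⁻¹⁆ := by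
        rw [commutatorElement_def, commutatorElement_def]; group
      rw [h3]
      exact comm_eq C (h1 a ha) (h1 b hb)
    rw [← mul_inv_eq_iff_eq_mul.1 h2]
  have hy : π y ∈ (Subgroup.centralizer ({x} : Set L)).map π :=
    hle (Subgroup.mem_centralizer_singleton_iff.2 h.symm)
  obtain ⟨m, hm, e⟩ := hy
  have hm' : m * x = x * m := Subgroup.mem_centralizer_singleton_iff.1 hm
  have h1 : π (y * m⁻¹) = 1 := by rw [map_mul, map_inv, e, mul_inv_cancel]
  have h2 := C.cen _ h1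
  obtain ⟨k, hk⟩ : ∃ k, k = y * m⁻¹ := ⟨_, rfl⟩
  rw [← hk] at h2
  have e2 : y = k * m := by rw [hk]; group
  rw [e2]
  calc x * (k * m) = (x * k) * m := by group
    _ = k * (x * m) := by rw [h2]; group
    _ = k * m * x := by rw [← hm']; group

theorem spe_unique {x y x' y' : L} (hx : π x ∈ T) (hy : π y ∈ T)
    (hx' : π x' ∈ T) (hy' : π y' ∈ T) (h : ⁅π x, π y⁆ ∈ T) (he : ⁅π x, π y⁆ = ⁅π x', π y'⁆) :
    ⁅x, y⁆ = ⁅x', y'⁆ := by
  have R := C.roots
  obtain ⟨g, hg1, hg2⟩ := R.spe _ hx _ hy _ hx' _ hy'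
    (by rwa [sq_mul_eq (R.sq _ hx) (R.sq _ hy)])
    (by rw [sq_mul_eq (R.sq _ hx') (R.sq _ hy'), ← he]; exact h)
  obtain ⟨m, rfl⟩ := C.surj g
  have h1 : m * ⁅x, y⁆ * m⁻¹ = ⁅x', y'⁆ := by
    rw [show m * ⁅x, y⁆ * m⁻¹ = ⁅m * x * m⁻¹, m * y * m⁻¹⁆ by
      rw [commutatorElement_def, commutatorElement_def]; group]
    exact comm_eq C (by rw [← hg1]; simp) (by rw [← hg2]; simp)
  have h2 : π ⁅x, y⁆ ∈ T := by rw [map_commutatorElement]; exact h
  have h3 : ⁅x, y⁆ * m = m * ⁅x, y⁆ := by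
    refine commute_lift C h2 ?_
    have h4 : π m * π ⁅x, y⁆ * (π m)⁻¹ = π ⁅x, y⁆ := by
      rw [← map_inv, ← map_mul, ← map_mul, h1, map_commutatorElement, map_commutatorElement, he]
    exact (mul_inv_eq_iff_eq_mul.1 h4).symm
  rw [← h1, ← h3, mul_inv_cancel_right]

theorem exists_spe {r : E} (hr : r ∈ T) : ∃ x y : L, π x ∈ T ∧ π y ∈ T ∧ ⁅π x, π y⁆ = r := by
  have R := C.roots
  obtain ⟨a, ha, b, hb, hab⟩ := R.spe_ex
  obtain ⟨g, hg⟩ := R.one _ hab _ hr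
  obtain ⟨x, hx⟩ := C.surj (g * a * g⁻¹)
  obtain ⟨y, hy⟩ := C.surj (g * b * g⁻¹)
  refine ⟨x, y, hx ▸ R.conj _ ha g, hy ▸ R.conj _ hb g, ?_⟩
  rw [hx, hy, ← hg, sq_mul_eq (R.sq _ ha) (R.sq _ hb), commutatorElement_def,
    commutatorElement_def]
  group

/-- (special pairs) -/
theorem w_commutator {x y : L} (hx : π x ∈ T) (hy : π y ∈ T)
    (h : ⁅π x, π y⁆ ∈ T) : w π T ⁅π x, π y⁆ = ⁅x, y⁆ := by
  classical
  have hex : ∃ x' y' : L, π x' ∈ T ∧ π y' ∈ T ∧ ⁅π x', π y'⁆ = ⁅π x, π y⁆ := ⟨x, y, hx, hy, rfl⟩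
  rw [w, dif_pos hex]
  obtain ⟨h1, h2, h3⟩ := hex.choose_spec.choose_spec
  exact spe_unique C h1 h2 hx hy (by rw [h3]; exact h) h3

theorem map_w {r : E} (hr : r ∈ T) : π (w π T r) = r := by
  obtain ⟨x, y, hx, hy, rfl⟩ := exists_spe C hr
  rw [w_commutator C hx hy hr, map_commutatorElement]

theorem w_conj (m : L) {r : E} (hr : r ∈ T) : m * w π T r * m⁻¹ = w π T (π m * r * (π m)⁻¹) := by
  have R := C.roots
  obtain ⟨x, y, hx, hy, rfl⟩ := exists_spe C hr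
  have e1 : π m * ⁅π x, π y⁆ * (π m)⁻¹ = ⁅π (m * x * m⁻¹), π (m * y * m⁻¹)⁆ := by
    simp only [map_mul, map_inv, commutatorElement_def]; group
  have h1 : π (m * x * m⁻¹) ∈ T := by rw [map_mul, map_mul, map_inv]; exact R.conj _ hx _
  have h2 : π (m * y * m⁻¹) ∈ T := by rw [map_mul, map_mul, map_inv]; exact R.conj _ hy _
  have h3 : ⁅π (m * x * m⁻¹), π (m * y * m⁻¹)⁆ ∈ T := by rw [← e1]; exact R.conj _ hr _
  rw [e1, w_commutator C h1 h2 h3, w_commutator C hx hy hr, commutatorElement_def, commutatorElement_def]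
  group

theorem w_comm {a b : E} (ha : a ∈ T) (hb : b ∈ T) (h : a * b = b * a) :
    w π T a * w π T b = w π T b * w π T a :=
  commute_lift C (by rw [map_w C ha]; exact ha) (by rw [map_w C ha, map_w C hb]; exact h)

/-- the canonical lifts are involutions -/
theorem w_sq {r : E} (hr : r ∈ T) : w π T r * w π T r = 1 := by
  have R := C.roots
  obtain ⟨x, y, hx, hy, rfl⟩ := exists_spe C hr
  rw [w_commutator C hx hy hr]
  obtain ⟨v, hv⟩ : ∃ v, v = ⁅x, y⁆ := ⟨_, rfl⟩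
  rw [← hv]
  have hπv : π v = ⁅π x, π y⁆ := by rw [hv, map_commutatorElement]
  have hy2 : π (y * y) = 1 := by rw [map_mul, R.sq _ hy]
  have hcy := C.cen _ hy2
  have h1 : x * y * x⁻¹ = v * y := by rw [hv, commutatorElement_def]; group
  have hvy : v * y = y * v := by
    refine commute_lift C (by rw [hπv]; exact hr) ?_
    rw [hπv]
    obtain ⟨a, ha⟩ : ∃ a, a = π x := ⟨_, rfl⟩
    obtain ⟨b, hb⟩ : ∃ b, b = π y := ⟨_, rfl⟩
    rw [← ha] at hx
    rw [← hb] at hy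
    rw [← ha, ← hb] at hr ⊢
    have ha2 := R.sq _ hx
    have hb2 := R.sq _ hy
    have ha' : a⁻¹ = a := inv_eq_iff_mul_eq_one.2 ha2
    have hb' : b⁻¹ = b := inv_eq_iff_mul_eq_one.2 hb2
    have hr2 := R.sq _ hr
    have hr' : ⁅a, b⁆⁻¹ = ⁅a, b⁆ := inv_eq_iff_mul_eq_one.2 hr2
    have h5 : ⁅a, b⁆ * b = a * b * a := by rw [commutatorElement_def, ha', hb', mul_assoc, hb2, mul_one]
    have h6 : b * ⁅a, b⁆ = (⁅a, b⁆⁻¹ * b⁻¹)⁻¹ := by group
    rw [h6, hr', hb', h5, mul_inv_rev, mul_inv_rev, ha', hb', mul_assoc]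
  have h2 : (v * y) * (v * y) = y * y := by
    rw [← h1]
    calc x * y * x⁻¹ * (x * y * x⁻¹) = x * (y * y) * x⁻¹ := by group
      _ = y * y := by rw [hcy, mul_inv_cancel_right]
  have h3 : (v * y) * (v * y) = (v * v) * (y * y) := by
    calc (v * y) * (v * y) = v * (y * v) * y := by group
      _ = v * (v * y) * y := by rw [hvy]
      _ = _ := by group
  rw [h3] at h2
  exact mul_eq_right.1 h2

theorem w_inv {r : E} (hr : r ∈ T) : (w π T r)⁻¹ = w π T r := inv_eq_iff_mul_eq_one.2 (w_sq C hr)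

/-- **Lines.** -/
theorem w_line {a b : E} (ha : a ∈ T) (hb : b ∈ T) (h : a * b ∈ T) : w π T a * w π T b = w π T (a * b) := by
  have R := C.roots
  obtain ⟨a₀, ha₀, b₀, hb₀, x, hx, hab, hxa, hxb, hxab, hcom⟩ := R.cfg_line
  have hxa' : ⁅x, a₀⁆ ∈ T := by rwa [← sq_mul_eq (R.sq _ hx) (R.sq _ ha₀)]
  have hxb' : ⁅x, b₀⁆ ∈ T := by rwa [← sq_mul_eq (R.sq _ hx) (R.sq _ hb₀)]
  have hxab' : ⁅x, a₀ * b₀⁆ ∈ T := by rwa [← sq_mul_eq (R.sq _ hx) (R.sq _ hab)]
  rw [sq_mul_eq (R.sq _ hx) (R.sq _ hb₀)] at hcom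
  obtain ⟨A, hA⟩ := C.surj a₀
  obtain ⟨B, hB⟩ := C.surj b₀
  obtain ⟨X, hX⟩ := C.surj x
  have k1 : w π T ⁅x, a₀⁆ = ⁅X, A⁆ := by
    have := w_commutator C (x := X) (y := A) (by rw [hX]; exact hx) (by rw [hA]; exact ha₀) (by rw [hX, hA]; exact hxa')
    rwa [hX, hA] at this
  have k2 : w π T ⁅x, b₀⁆ = ⁅X, B⁆ := by
    have := w_commutator C (x := X) (y := B) (by rw [hX]; exact hx) (by rw [hB]; exact hb₀) (by rw [hX, hB]; exact hxb')
    rwa [hX, hB] at this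
  have k3 : w π T ⁅x, a₀ * b₀⁆ = ⁅X, A * B⁆ := by
    have := w_commutator C (x := X) (y := A * B) (by rw [hX]; exact hx) (by rw [map_mul, hA, hB]; exact hab)
      (by rw [map_mul, hX, hA, hB]; exact hxab')
    rwa [map_mul, hX, hA, hB] at this
  have hc2 : ⁅X, B⁆ * A = A * ⁅X, B⁆ := by
    refine commute_lift C (by rw [map_commutatorElement, hX, hB]; exact hxb') ?_
    rw [map_commutatorElement, hX, hB, hA]
    exact hcom.symm
  have k4 : ⁅X, A * B⁆ = ⁅X, A⁆ * ⁅X, B⁆ := by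
    rw [commutatorElement_def, commutatorElement_def, commutatorElement_def]
    rw [commutatorElement_def] at hc2
    calc X * (A * B) * X⁻¹ * (A * B)⁻¹ = (X * A * X⁻¹ * A⁻¹) * (A * (X * B * X⁻¹ * B⁻¹)) * A⁻¹ := by group
      _ = (X * A * X⁻¹ * A⁻¹) * ((X * B * X⁻¹ * B⁻¹) * A) * A⁻¹ := by rw [hc2]
      _ = _ := by group
  have k5 : ⁅x, a₀ * b₀⁆ = ⁅x, a₀⁆ * ⁅x, b₀⁆ := by
    rw [commutatorElement_def, commutatorElement_def, commutatorElement_def]
    rw [commutatorElement_def] at hcom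
    calc x * (a₀ * b₀) * x⁻¹ * (a₀ * b₀)⁻¹ = (x * a₀ * x⁻¹ * a₀⁻¹) * (a₀ * (x * b₀ * x⁻¹ * b₀⁻¹)) * a₀⁻¹ := by group
      _ = (x * a₀ * x⁻¹ * a₀⁻¹) * ((x * b₀ * x⁻¹ * b₀⁻¹) * a₀) * a₀⁻¹ := by rw [hcom]
      _ = _ := by group
  have k6 : w π T ⁅x, a₀⁆ * w π T ⁅x, b₀⁆ = w π T (⁅x, a₀⁆ * ⁅x, b₀⁆) := by
    rw [k1, k2, ← k4, ← k3, k5]
  obtain ⟨g, hg1, hg2⟩ := R.col _ hxa' _ hxb' _ ha _ hb (by rw [← k5]; exact hxab') h
  obtain ⟨m, rfl⟩ := C.surj g
  have c1 := w_conj C m hxa'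
  have c2 := w_conj C m hxb'
  have c3 := w_conj C m (r := ⁅x, a₀⁆ * ⁅x, b₀⁆) (by rw [← k5]; exact hxab')
  rw [hg1] at c1
  rw [hg2] at c2
  have e3 : π m * (⁅x, a₀⁆ * ⁅x, b₀⁆) * (π m)⁻¹ = a * b := by
    rw [← hg1, ← hg2]; group
  rw [e3] at c3
  rw [← c1, ← c2, ← c3, ← k6]
  group

end

/-- **The instance.** -/
theorem cen_root {K : Type*} [Field K] [Fintype K] (hK : Fintype.card K = 4) {L : Type*} [Group L]
    {π : L →* ↥(Cfsg.Lie.twistedE6 K 2)} (hs : Function.Surjective π) (hc : π.ker ≤ Subgroup.center L) :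
    Cen π (Cfsg.Agent.BabyU.rootClass K) where
  surj := hs
  cen _ hz m := Subgroup.mem_center_iff.1 (hc hz) m
  roots := Cfsg.Agent.TwoESix.RootsInst.roots K hK
  perf _ hr := Cfsg.Agent.BabyU.Perf1.perf_root hK hr

end Cfsg.Agent.H584.F4.Can
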