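import Cfsg.Agent.H584.F4.Fin
import Cfsg.Agent.H588.F4.Main

/-!
# The complement `D` of the kernel in the preimage of the layer `2^8` of `P₄` (S2491, QS row F4, box P4a; helper584)

`exists_D` : in every perfect central extension of `²E₆(2)`.
-/

set_option autoImplicit false

namespace Cfsg.Agent.H584.F4.DMain

open Cfsg.Lie
open Cfsg.Agent.H181.O8m Cfsg.Agent.H231.QF Cfsg.Agent.H590.F4 Cfsg.Agent.H588.F4
open Cfsg.Agent.LieClassical.OrthCore
open Cfsg.Agent.H51.Mult (PCE)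
open Cfsg.Agent.TwoESix.LeviA (Four)

universe u v

/-- **The complement `D`.** -/
theorem exists_D {F : Type u} [Field F] [Fintype F] (hF : Fintype.card F = 4) {φ : F →+* F} (hφ : ∀ t, φ t = t ^ 2)
    {L : Type v} [Group L] {π : L →* KK F} (hπ : PCE π) : ∃ D : Subgroup L, DF φ π D := by
  obtain ⟨p, ψ, h1, h2, h3, h4, h5⟩ := exists_model hF hφ
  have h6 := pow_four hF
  have H : Four F φ := ⟨hF, hφ, fun t => by rw [hφ, hφ, ← pow_mul]; exact h6 t⟩
  have h7 : p (.ofAdd (dec 16)) ∈ Cfsg.Agent.BabyU.rootClass F := by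
    rw [Cfsg.Agent.TwoESix.RootsInst.mem_rootClass_iff H]
    exact ⟨1, by rw [h5, Subgroup.coe_one, one_mul, inv_one, mul_one]⟩
  exact ExD.exists_D_of_iden hF hφ h1 h2 h3 h4 Fin.dec16_ne Fin.dec16_q h7 hπ

end Cfsg.Agent.H584.F4.DMain
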