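import Cfsg.Agent.H584.F4.Mod
import Cfsg.Agent.H240.F4.Gen
import Cfsg.Agent.H590.F4.Layer

/-!
# The complement `D` (S2491, QS row F4, box P4a; helper584)
-/

set_option autoImplicit false

namespace Cfsg.Agent.H584.F4.ExD

open Cfsg.Agent.BabyU.Lab Cfsg.Agent.H584.F4.Can Cfsg.Agent.H584.F4.Span
open Cfsg.Agent.H181.O8m Cfsg.Agent.H231.QF Cfsg.Agent.H590.F4
open Cfsg.Agent.LieClassical.OrthCore
open Cfsg.Agent.H51.Mult (PCE)

universe u v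

variable {F : Type u} [Field F] [Fintype F] (hF : Fintype.card F = 4) {φ : F →+* F} (hφ : ∀ t, φ t = t ^ 2)

include hF hφ

/-- `D` from the identification of `Lv φ j4` with `Ω₈⁻(2)` and of the layer with its natural module -/
theorem exists_D_of_iden {p : Multiplicative V →* KK F} (hp : Function.Injective p) (hpr : p.range = V2 φ)
    {ψ : ↥(Lv φ j4) →* ↥O8}
    (hψ : ∀ (g : ↥(Lv φ j4)) (v : V), (g : KK F) * p (.ofAdd v) * (g : KK F)⁻¹ =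
      p (.ofAdd ((ψ g : V ≃ₗ[ZMod 2] V) v)))
    (hgen : ∀ g : ↥O8, Cfsg.Agent.H240.F4.IsG g → g ∈ ψ.range) {r : V} (hr : r ≠ 0) (hqr : q r = 0)
    (hrt : p (.ofAdd r) ∈ Cfsg.Agent.BabyU.rootClass F) {L : Type v} [Group L] {π : L →* KK F} (hπ : PCE π) :
    ∃ D : Subgroup L, DF φ π D := by
  obtain ⟨hle, hnorm, hcen, hcom, hidx⟩ := Lay.layer hF hφ
  have C : Cen π (Cfsg.Agent.BabyU.rootClass F) := cen_root hF hπ.surj hπ.cen
  refine Mod.DF_of_model hp hpr ?_ ?_ C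
  · intro g hg
    obtain ⟨l, hl, v, hv, rfl⟩ := (Lay.pdec hF hφ).2 g hg
    refine ⟨ψ ⟨l, hl⟩, fun w => ?_⟩
    have h1 : p (.ofAdd w) ∈ V2 φ := by rw [← hpr]; exact ⟨_, rfl⟩
    have h2 := hcen v hv _ h1
    have h3 : l * v * p (.ofAdd w) * (l * v)⁻¹ = l * (v * p (.ofAdd w)) * v⁻¹ * l⁻¹ := by group
    rw [h3, h2]
    have h4 : l * (p (.ofAdd w) * v) * v⁻¹ * l⁻¹ = l * p (.ofAdd w) * l⁻¹ := by group
    rw [h4]
    exact hψ ⟨l, hl⟩ w
  · intro v hv hqv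
    obtain ⟨g, hg, e⟩ := Cfsg.Agent.H240.F4.trans_sing hr hv hqr hqv
    obtain ⟨l, rfl⟩ := Cfsg.Agent.H240.F4.N8_le hgen hg
    rw [← e, ← hψ]
    exact C.roots.conj _ hrt _

end Cfsg.Agent.H584.F4.ExD
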