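import Cfsg.Agent.H584.F4.ExD
import Cfsg.Agent.H588.F4.Iden

/-!
# The complement `D` (S2491, QS row F4, box P4a; helper584)
-/

set_option autoImplicit false

namespace Cfsg.Agent.H584.F4.Fin

open Cfsg.Lie
open Cfsg.Agent.H181.O8m Cfsg.Agent.H231.QF Cfsg.Agent.H590.F4 Cfsg.Agent.H588.F4
open Cfsg.Agent.LieClassical.OrthCore
open Cfsg.Agent.H51.Mult (PCE)
open Cfsg.Agent.TwoESix.LeviA (Four)

universe u v

theorem dec16 : ∀ k, dec 16 k = if k = .inl (.inr 0) then 1 else 0 := by decide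

theorem dec16_ne : dec 16 ≠ 0 := by decide

theorem dec16_q : q (dec 16) = 0 := by rw [q_dec]; decide

section

variable {F : Type u} [Field F] [Fintype F] [CharP F 2] (hF : Fintype.card F = 4) {φ : F →+* F} (hφ : ∀ t, φ t = t ^ 2)
  {w : F} (hw : w ^ 2 + w + 1 = 0) (h4 : ∀ t : F, t ^ 4 = t)

theorem Ph16 : Ph w (dec 16) = Pi.single 7 1 := by
  funext k
  have h : Ph w (dec 16) = ![io (dec 16 (.inl (.inl 0))), io (dec 16 (.inl (.inl 1))), io (dec 16 (.inl (.inl 2))),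
    io (dec 16 (.inr 0)) + io (dec 16 (.inr 1)) * w, io (dec 16 (.inr 0)) + io (dec 16 (.inr 1)) * w ^ 2,
    io (dec 16 (.inl (.inr 2))), io (dec 16 (.inl (.inr 1))), io (dec 16 (.inl (.inr 0)))] := rfl
  rw [h]
  simp only [dec16]
  fin_cases k <;> simp

include hF in
/-- `x₇₁(1)` is a root element -/
theorem root16 : pp hw h4 hφ (.ofAdd (dec 16)) ∈ Cfsg.Agent.BabyU.rootClass F := by
  have H : Four F φ := ⟨hF, hφ, fun t => by rw [hφ, hφ, ← pow_mul]; exact h4 t⟩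
  rw [Cfsg.Agent.TwoESix.RootsInst.mem_rootClass_iff H]
  refine ⟨1, ?_⟩
  rw [coe_pp, Ph16, Pc_single, show top 7 = 71 from rfl, Subgroup.coe_one, one_mul, inv_one, mul_one]

include hF in
/-- `D`, given the eight generators -/
theorem exists_D_of_gen (hgen : ∀ ψ : ↥(Lv φ j4) →* ↥O8,
      (∀ (g : ↥(Lv φ j4)) (v : V), (g : KK F) * pp hw h4 hφ (.ofAdd v) * (g : KK F)⁻¹ =
        pp hw h4 hφ (.ofAdd ((ψ g : V ≃ₗ[ZMod 2] V) v))) → ∀ g : ↥O8, Cfsg.Agent.H240.F4.IsG g → g ∈ ψ.range)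
    {L : Type v} [Group L] {π : L →* KK F} (hπ : PCE π) : ∃ D : Subgroup L, DF φ π D := by
  obtain ⟨ψ, hψ⟩ := exists_psi (pp_injective hw h4 hφ) (L := Lv φ j4) fun g hg v => act_pp hw h4 hφ hg v
  exact ExD.exists_D_of_iden hF hφ (pp_injective hw h4 hφ) (range_pp hw h4 hφ) hψ (hgen ψ hψ) dec16_ne dec16_q
    (root16 hF hφ hw h4) hπ

end

end Cfsg.Agent.H584.F4.Fin
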