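import Cfsg.Agent.H231.QS.TwCen

/-!
# The element of order `21` of `²E₆(2)` in the cover (S2491, QS row F4; helper584)

* `om` : a word of `W(F₄)` fixing the long roots `α₀`, `α₁`, whose image in `W(F₄) / W(D₄) = S₃` has order `3`;
* `comm_f` : the representatives of `om` centralise the block `f : SL₃(2) → ²E₆(2)` of the nodes `0`, `1`;
* `exists_fuse` : in a perfect central extension with kernel of order `3` the representative of `om` conjugates the lift
  `b` of `Q₃(dg v)` to `b ζ`, `ζ ≠ 1`.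
-/

set_option autoImplicit false
set_option linter.unusedSectionVars false

namespace Cfsg.Agent.H584.F4.Fus

open CoxeterSystem Cfsg.Agent.ChevalleyStructure.CoxeterGeom Cfsg.Agent.Tits.Roots Cfsg.Agent.Tits.Core
  Cfsg.Agent.Nodes Cfsg.Agent.Nodes.Reps Cfsg.Agent.Nodes.BNOf Cfsg.Agent.Nodes.RGDLib Cfsg.Agent.Nodes.Bruhat
  Cfsg.Agent.Nodes.OppDec Cfsg.Agent.Nodes.LeviDec Cfsg.Agent.Nodes.StabComb Cfsg.Agent.Nodes.KindChev
  Cfsg.Agent.Nodes.ChevCls Cfsg.Agent.Nodes.RGDLift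
  Cfsg.Agent.OddHalf.NI.ModelChev
  Cfsg.Agent.H928.Ore.TwE Cfsg.Agent.H928.Ore.TwS Cfsg.Agent.H928.Ore.TwF
open Cfsg.Lie Cfsg.Agent.ChevalleyStructure Cfsg.Agent.ChevalleyStructure.Elts
  Cfsg.Agent.ChevalleyStructure.NPerm
  Cfsg.Agent.ChevalleyStructure.CoxeterGeomTypes Cfsg.Agent.Nodes.RGDChev Cfsg.Agent.KFacts.RgdChevCoord
open Cfsg.Agent.Nodes.RGDTwGen Cfsg.Agent.Nodes.RGDFold Cfsg.Agent.Nodes.RGDTwE6
open Cfsg.Agent.Nodes.RGDFoldSL (Fx mem_Fx psi psi_up psi_lo hv)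
open Cfsg.Agent.Nodes.RGDTwNode.E6 (rest)
open Cfsg.Agent.FixBN.FieldRGD (uu vv dd ww)
open Cfsg.Agent.OddHalf.NI.Mult (dg nn up lo dgHom Coord)
open Cfsg.Agent.H162.GaussExcMain (r6)
open Cfsg.Agent.H162.GaussReg (hom_ext)
open Cfsg.Agent.H335.Sr
open Cfsg.Agent.H231.QS.Lift Cfsg.Agent.H231.QS.TwCen
open scoped MatrixGroups

universe u

/-! ### The word -/

/-- the word -/
def om : List (Fin 4) := [2, 1, 2, 3, 2, 1, 2, 0, 1, 2, 3, 1, 0, 2, 1, 2, 3, 2, 1, 2]

section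

variable {W : Type*} [Group W] (cs : CoxeterSystem CoxeterMatrix.F₄ W)

theorem rep_word (ω : List (Fin 4)) (x : Fin 4 → ℤ) : rep cs RGDTwE6.isCartan (cs.wordProd ω) x =
    ω.foldr (fun i y => CoxeterGeom.refl RGDTwE6.A i y) x := by
  induction ω with
  | nil => rw [wordProd_nil, map_one]; rfl
  | cons i ω ih =>
    rw [wordProd_cons, rep_mul_apply, ih, rep_simple]
    rfl

theorem om_fix : om.foldr (fun i y => CoxeterGeom.refl RGDTwE6.A i y) (sr 0 : Fin 4 → ℤ) = sr 0 ∧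
    om.foldr (fun i y => CoxeterGeom.refl RGDTwE6.A i y) (sr 1 : Fin 4 → ℤ) = sr 1 := by decide +kernel

theorem rep_om {z : Fin 4 → ℤ} (h2 : z 2 = 0) (h3 : z 3 = 0) :
    rep cs RGDTwE6.isCartan (cs.wordProd om) z = z := by
  have e : z = z 0 • (sr 0 : Fin 4 → ℤ) + z 1 • (sr 1 : Fin 4 → ℤ) := by
    funext k
    fin_cases k <;> simp [sr, h2, h3]
  have e0 : rep cs RGDTwE6.isCartan (cs.wordProd om) (sr 0) = sr 0 := by rw [rep_word]; exact om_fix.1
  have e1 : rep cs RGDTwE6.isCartan (cs.wordProd om) (sr 1) = sr 1 := by rw [rep_word]; exact om_fix.2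
  conv_lhs => rw [e]
  rw [map_add, map_smul, map_smul, e0, e1, ← e]

end

/-! ### The action on an element of order three -/

section

variable {E : Type*} [Group E]

/-- the exponents -/
def st (ω : List (Fin 4)) : ℤ × ℤ :=
  ω.foldr (fun i s => if i = 2 then (-s.1, s.2 - s.1) else if i = 3 then (-s.1, s.2) else s) (1, 0)

theorem st_om : st om = (1, -1) := by decide +kernel

theorem act_word {b ζ : E} (hz : ∀ x, x * ζ = ζ * x) {m : Fin 4 → E} (h0 : m 0 * b * (m 0)⁻¹ = b)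
    (h1 : m 1 * b * (m 1)⁻¹ = b) (h2 : m 2 * b * (m 2)⁻¹ = b⁻¹ * ζ⁻¹) (h3 : m 3 * b * (m 3)⁻¹ = b⁻¹)
    (ω : List (Fin 4)) : (ω.map m).prod * b * ((ω.map m).prod)⁻¹ = b ^ (st ω).1 * ζ ^ (st ω).2 := by
  induction ω with
  | nil => simp [st]
  | cons i ω ih =>
    have hzz : ∀ (x : E) (k : ℤ), x * ζ ^ k * x⁻¹ = ζ ^ k := by
      intro x k
      have : Commute x (ζ ^ k) := (show Commute x ζ from hz x).zpow_right k
      rw [this.eq, mul_inv_cancel_right]
    have hcj : ∀ (x : E) (k : ℤ), x * b ^ k * x⁻¹ = (x * b * x⁻¹) ^ k := fun x k => by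
      have := map_zpow (MulAut.conj x) b k
      simpa only [MulAut.conj_apply] using this
    have e1 : ((i :: ω).map m).prod * b * (((i :: ω).map m).prod)⁻¹ =
        (m i * b * (m i)⁻¹) ^ (st ω).1 * ζ ^ (st ω).2 := by
      rw [List.map_cons, List.prod_cons, _root_.mul_inv_rev]
      calc m i * (ω.map m).prod * b * (((ω.map m).prod)⁻¹ * (m i)⁻¹)
          = m i * ((ω.map m).prod * b * ((ω.map m).prod)⁻¹) * (m i)⁻¹ := by group
        _ = (m i * b ^ (st ω).1 * (m i)⁻¹) * (m i * ζ ^ (st ω).2 * (m i)⁻¹) := by rw [ih]; group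
        _ = _ := by rw [hzz, hcj]
    rw [e1]
    have e2 : st (i :: ω) = if i = 2 then (-(st ω).1, (st ω).2 - (st ω).1) else
        if i = 3 then (-(st ω).1, (st ω).2) else st ω := rfl
    have hi : i = 0 ∨ i = 1 ∨ i = 2 ∨ i = 3 := by
      have : ∀ i : Fin 4, i = 0 ∨ i = 1 ∨ i = 2 ∨ i = 3 := by decide
      exact this i
    have hcm : Commute b⁻¹ ζ⁻¹ := (show Commute b ζ from hz b).inv_inv
    rcases hi with rfl | rfl | rfl | rfl
    · rw [e2, if_neg (by decide), if_neg (by decide), h0]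
    · rw [e2, if_neg (by decide), if_neg (by decide), h1]
    · rw [e2, if_pos rfl, h2, hcm.mul_zpow, inv_zpow, inv_zpow, ← zpow_neg, ← zpow_neg]
      change b ^ (-(st ω).1) * ζ ^ (-(st ω).1) * ζ ^ (st ω).2 = b ^ (-(st ω).1) * ζ ^ ((st ω).2 - (st ω).1)
      rw [mul_assoc, ← zpow_add]
      congr 2
      ring
    · rw [e2, if_neg (by decide), if_pos rfl, h3, inv_zpow, ← zpow_neg]

end

/-! ### The representative centralises the block -/

section

variable {K : Type u} [Field K] [Fintype K] {φ : K →+* K} (hφ : ∀ t, φ t = t ^ 2)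
  (hqq : ∀ t : K, (t ^ 2) ^ 2 = t)
  {P : Matrix.SpecialLinearGroup (Fin 3) K →* ↥(chevE6.group K)}
  (hP : ∀ a b (hab : a ≠ b) c, P (Matrix.SpecialLinearGroup.transvection hab c) =
      xc RGDTwE6.hp (vec chevE6 6 (r6 a b)) (((1 : ℤ) : K) * c))
  {f : Matrix.SpecialLinearGroup (Fin 3) (Fx φ 1) →* ↥(twistedE6 K 2)}
  (hf : ∀ A, inc K 2 (f A) = P (Matrix.SpecialLinearGroup.map (Fx φ 1).subtype A))
  {W : Type*} [Group W] (cs : CoxeterSystem CoxeterMatrix.F₄ W)

include hφ in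
omit [Fintype K] in
/-- the field of two elements -/
theorem fx_two (c : Fx φ 1) : c = 0 ∨ c = 1 := by
  have h1 : φ (c : K) = c := mem_Fx.1 c.2
  rw [hφ] at h1
  have h2 : (c : K) * ((c : K) - 1) = 0 := by linear_combination h1
  rcases mul_eq_zero.1 h2 with h | h
  · exact Or.inl (Subtype.ext h)
  · exact Or.inr (Subtype.ext (sub_eq_zero.1 h))

include hφ hqq hP hf in
/-- **The representatives of `om` centralise the block.** -/
theorem comm_f {p : ℕ} (R : RGD cs RGDTwE6.isCartan p (T K 2) (RGDTwE6.nn hφ) (RGDTwE6.X φ 2))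
    {g : ↥(twistedE6 K 2)} (hg : Rp cs R.nsys (cs.wordProd om) g)
    (A : Matrix.SpecialLinearGroup (Fin 3) (Fx φ 1)) : g * f A * g⁻¹ = f A := by
  have h : (MulAut.conj g).toMonoidHom.comp f = f := by
    refine hom_ext fun a b hab c => ?_
    change g * f (Matrix.SpecialLinearGroup.transvection hab c) * g⁻¹ = f (Matrix.SpecialLinearGroup.transvection hab c)
    by_cases hc : f (Matrix.SpecialLinearGroup.transvection hab c) = 1
    · rw [hc]; group
    have hz := RGDTwComE6.isRoot_V (cs := cs) (rlt a b hab)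
    obtain ⟨z2, z3⟩ := V_r6 a b hab
    have h1 := f_X hφ hqq hP hf hab c
    have h2 := R.conj_mem hg hz h1
    rw [rep_om cs z2 z3] at h2
    obtain ⟨a', b', hab', -, -, h3⟩ := X_eq_f hφ hqq hP hf cs hz (fun k hk => by
      have hk' : k = 2 ∨ k = 3 := by
        have h : ∀ k : Fin 4, ¬ (k = 0 ∨ k = 1) → k = 2 ∨ k = 3 := by decide
        exact h k hk
      rcases hk' with rfl | rfl
      · exact z2
      · exact z3)
    have h4 : ∀ y ∈ RGDTwE6.X φ 2 (V chevE6 J (r6 a b)), y ≠ 1 →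
        y = f (Matrix.SpecialLinearGroup.transvection hab' 1) := by
      intro y hy hy1
      obtain ⟨d, rfl⟩ := h3 y hy
      rcases fx_two hφ d with rfl | rfl
      · exfalso
        apply hy1
        have e0 : Matrix.SpecialLinearGroup.transvection hab' (0 : Fx φ 1) = 1 :=
          Subtype.ext (Matrix.transvection_zero a' b')
        rw [e0, map_one]
      · rfl
    rw [h4 _ h1 hc]
    rw [h4 _ h1 hc] at h2
    refine h4 _ h2 fun h5 => ?_
    have h6 : f (Matrix.SpecialLinearGroup.transvection hab' 1) = 1 := by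
      calc f (Matrix.SpecialLinearGroup.transvection hab' 1)
          = g⁻¹ * (g * f (Matrix.SpecialLinearGroup.transvection hab' 1) * g⁻¹) * g := by group
        _ = 1 := by rw [h5]; group
    rw [← h4 _ h1 hc] at h6
    exact hc h6
  exact DFunLike.congr_fun h A

end

/-! ### The cover with kernel of order three -/

/-- the torus centralises the rank one groups over the field of two elements -/
theorem tor_two {I W Y : Type*} [Fintype I] [DecidableEq I] [Group W] [Group Y] {M : CoxeterMatrix I}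
    {cs : CoxeterSystem M W} {A : I → I → ℤ} {h : IsCartan M A} {p : ℕ} {T : Subgroup Y} {n : I → Y}
    {X : (I → ℤ) → Subgroup Y} (R : RGD cs h p T n X) {F : I → Type*} [∀ i, Field (F i)]
    {s : ∀ i, Matrix.SpecialLinearGroup (Fin 2) (F i) →* Y} (C : Coord X F s) {i : I}
    (h2 : ∀ c : F i, c = 0 ∨ c = 1) {b : Y} (hb : b ∈ T) (A : Matrix.SpecialLinearGroup (Fin 2) (F i)) :
    b * s i A * b⁻¹ = s i A := by
  have key : ∀ (u : F i → Matrix.SpecialLinearGroup (Fin 2) (F i)), u 0 = 1 → (∀ x, IsRoot cs h x →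
      (X x : Set Y) = Set.range (fun a : F i => s i (u a)) → ∀ a, b * s i (u a) * b⁻¹ = s i (u a)) := by
    intro u hu0 x hx hX a
    rcases h2 a with rfl | rfl
    · rw [hu0, map_one]; group
    · have h3 : s i (u 1) ∈ X x := by
        have : s i (u 1) ∈ (X x : Set Y) := by rw [hX]; exact ⟨1, rfl⟩
        exact this
      have h4 : b * s i (u 1) * b⁻¹ ∈ X x := by
        rw [← R.tor x hx b hb]
        exact conj_mem_cj.2 h3
      have h5 : b * s i (u 1) * b⁻¹ ∈ (X x : Set Y) := h4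
      rw [hX] at h5
      obtain ⟨c, hc⟩ := h5
      change s i (u c) = b * s i (u 1) * b⁻¹ at hc
      rcases h2 c with rfl | rfl
      · rw [hu0, map_one] at hc
        have h6 : s i (u 1) = 1 := by
          calc s i (u 1) = b⁻¹ * (b * s i (u 1) * b⁻¹) * b := by group
            _ = 1 := by rw [← hc]; group
        rw [h6]; group
      · exact hc.symm
  have h3 : (MonoidHom.eqLocus ((MulAut.conj b).toMonoidHom.comp (s i)) (s i)) = ⊤ :=
    Cfsg.Agent.OddHalf.NI.Mult.mem_of_up_lo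
      (fun a => key up (Cfsg.Agent.OddHalf.NI.Mult.up_zero) (sr i) (isRoot_sr cs h i) (C.up i) a)
      (fun a => key lo (Cfsg.Agent.OddHalf.NI.Mult.lo_zero) (-sr i) (isRoot_sr cs h i).neg (C.lo i) a)
  have h4 : A ∈ MonoidHom.eqLocus ((MulAut.conj b).toMonoidHom.comp (s i)) (s i) := by
    rw [h3]; exact Subgroup.mem_top A
  exact h4

/-- **The cover.** -/
theorem exists_fuse {K : Type u} [Field K] [Fintype K] (hK : Fintype.card K = 4) {φ : K →+* K}
    (hφ : ∀ t, φ t = t ^ 2) (hqq : ∀ t : K, (t ^ 2) ^ 2 = t)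
    {E : Type*} [Group E] [Finite E] {π : E →* ↥(twistedE6 K 2)} (hsur : Function.Surjective π)
    (hc : π.ker ≤ Subgroup.center E) (h3 : Nat.card π.ker = 3) (hE : commutator E = ⊤) {p : ℕ} [Fact p.Prime]
    [CharP K p] (R : RGD CoxeterMatrix.F₄.toCoxeterSystem RGDTwE6.isCartan p (T K 2) (RGDTwE6.nn hφ) (RGDTwE6.X φ 2)) :
    ∃ n : E, Rp CoxeterMatrix.F₄.toCoxeterSystem R.nsys (CoxeterMatrix.F₄.toCoxeterSystem.wordProd om) (π n) ∧
      ∃ ζ ∈ π.ker, ζ ≠ 1 ∧ ∃ v : (Fx φ 2)ˣ, v ≠ 1 ∧ ∃ b : E, π b = Q3 hφ hqq (dg v) ∧ n * b * n⁻¹ = b * ζ := by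
  have : Fact (Nat.Prime 3) := ⟨Nat.prime_three⟩
  have h0 : (p : K) = 0 := CharP.cast_eq_zero K p
  have hp2 : p = 2 := by
    have h4 : ((4 : ℕ) : K) = 0 := by rw [← hK]; exact Nat.cast_card_eq_zero K
    have h5 : p ∣ 2 ^ 2 := (CharP.cast_eq_zero_iff K p 4).1 h4
    exact (Nat.prime_dvd_prime_iff_eq Fact.out Nat.prime_two).1 ((Fact.out : p.Prime).dvd_of_dvd_pow h5)
  have hp3 : p ≠ 3 := by omega
  have h3' : IsPGroup 3 π.ker := IsPGroup.of_card (n := 1) (by rw [h3, pow_one])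
  have hfin : Finite (GL chevE6.Idx K) := by
    have : Finite (Matrix chevE6.Idx chevE6.Idx K) := inferInstance
    infer_instance
  have : Finite ↥(twistedE6 K 2) := inferInstance
  have : Finite CoxeterMatrix.F₄.Group := Cfsg.Agent.Nodes.RGDFold.finite_W (hp := RGDTwE6.hp)
    CoxeterMatrix.F₄.toCoxeterSystem RGDTwE6.isCartan RGDTwE6.foldData
  have hker : (Nat.card π.ker).Coprime p := by
    rw [h3, hp2]; decide
  have hn : ∃ n' : Fin 4 → E, ∀ i, π (n' i) = RGDTwE6.nn hφ i := by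
    choose n' hn' using fun i => hsur (RGDTwE6.nn hφ i)
    exact ⟨n', hn'⟩
  obtain ⟨n', hn'⟩ := hn
  have R' := rgd_lift hc hker hsur R hn'
  have hG := RGDTwE6.G1_eq_top CoxeterMatrix.F₄.toCoxeterSystem hφ hqq
  have hG' := Cfsg.Agent.OddHalf.NI.Mult.G1_lift R hG hsur hc hker hE
  have C := Cfsg.Agent.H958.TS.TwCommon.coordP hφ hqq
  have hch : ∀ i : Fin 4, ((p : ℕ) : Fx φ ((rest i).length + 1)) = 0 := fun i =>
    Subtype.ext (by
      rw [Subring.coe_natCast, ZeroMemClass.coe_zero]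
      exact h0)
  have hlift : ∀ i, ∃ s' : Matrix.SpecialLinearGroup (Fin 2) (Fx φ ((rest i).length + 1))
      →* E, π.comp s' = Cfsg.Agent.H958.TS.TwCommon.P hφ hqq i := fun i =>
    Cfsg.Agent.H231.QS.Lift.exists_lift (p := p) (r := 3) hp3 hsur hc h3' _ (closure_pow (hch i))
      (fun P => cyc_two (hch i) hp3 P)
  choose t ht using hlift
  have ht' : ∀ i A, π (t i A) = Cfsg.Agent.H958.TS.TwCommon.P hφ hqq i A := fun i A => DFunLike.congr_fun (ht i) A
  have C' := Cfsg.Agent.OddHalf.NI.Mult.coord_lift R C hc hker ht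
  have hT := Cfsg.Agent.OddHalf.NI.Mult.torus R' C' hG'
  obtain ⟨s2, hs2⟩ : ∃ s2 : SL(2, Fx φ 2) →* E, s2 = t 2 := ⟨_, rfl⟩
  obtain ⟨s3, hs3⟩ : ∃ s3 : SL(2, Fx φ 2) →* E, s3 = t 3 := ⟨_, rfl⟩
  have hq2 : ∀ A, π (s2 A) = Q2 hφ hqq A := by
    rw [hs2]
    exact fun A => ht' 2 A
  have hq3 : ∀ A, π (s3 A) = Q3 hφ hqq A := by
    rw [hs3]
    exact fun A => ht' 3 A
  have hcard : 4 ≤ Nat.card (Fx φ 2) := by
    have h5 : (Fx φ 2) = ⊤ := by
      rw [eq_top_iff]
      intro y _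
      rw [mem_Fx]
      change φ (φ y) = y
      rw [hφ, hφ, hqq]
    have h6 : Nat.card (Fx φ 2) = Nat.card K := by
      rw [h5]
      exact Nat.card_congr Subfield.topEquiv.toEquiv
    rw [h6, Nat.card_eq_fintype_card, hK]
  have hperf : commutator SL(2, Fx φ 2) = ⊤ := perf2 hcard
  have h32 : ∀ v A, s3 (dg v) * s2 A * (s3 (dg v))⁻¹ = s2 (cj2 v⁻¹ A) := by
    intro v
    have h5 : (MulAut.conj (s3 (dg v))).toMonoidHom.comp s2 = s2.comp (cj2 v⁻¹) := by
      refine hom_eq hperf hc fun A => ?_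
      change π (s3 (dg v) * s2 A * (s3 (dg v))⁻¹) = π (s2 (cj2 v⁻¹ A))
      rw [map_mul, map_mul, map_inv, hq3, hq2, hq2]
      exact rel32 hφ hqq v A
    exact fun A => DFunLike.congr_fun h5 A
  have h32c : ∀ v w, s3 (dg v) * s2 (dg w) = s2 (dg w) * s3 (dg v) := by
    intro v w
    have h5 := h32 v (dg w)
    have h6 : cj2 v⁻¹ (dg w) = dg w := by
      apply Subtype.ext
      change !![((w : Fx φ 2)), ((v⁻¹ : (Fx φ 2)ˣ) : Fx φ 2) * 0; ((v⁻¹⁻¹ : (Fx φ 2)ˣ) : Fx φ 2) * 0,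
        ((w⁻¹ : (Fx φ 2)ˣ) : Fx φ 2)] = !![(w : Fx φ 2), 0; 0, ((w⁻¹ : (Fx φ 2)ˣ) : Fx φ 2)]
      rw [mul_zero, mul_zero]
    rw [h6] at h5
    exact mul_inv_eq_iff_eq_mul.1 h5
  have htwo : ∀ i : Fin 4, (i = 0 ∨ i = 1) → ∀ c : Fx φ ((rest i).length + 1), c = 0 ∨ c = 1 := by
    rintro i (rfl | rfl) c
    · exact fx_two hφ c
    · exact fx_two hφ c
  have hone : ∀ i : Fin 4, (i = 0 ∨ i = 1) → ∀ a : (Fx φ ((rest i).length + 1))ˣ, a = 1 := fun i hi a =>
    Units.ext ((htwo i hi a).resolve_left a.ne_zero)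
  have hcom : ∀ i j, i ≠ j → ∀ a b, Commute (t i (dg a)) (t j (dg b)) := by
    have k1 : ∀ i : Fin 4, (i = 0 ∨ i = 1) → ∀ a, t i (dg a) = 1 := fun i hi a => by
      rw [hone i hi a, Cfsg.Agent.OddHalf.NI.Mult.dg_one, map_one]
    intro i j hij a b
    by_cases hi : i = 0 ∨ i = 1
    · rw [k1 i hi]; exact Commute.one_left _
    by_cases hj : j = 0 ∨ j = 1
    · rw [k1 j hj]; exact Commute.one_right _
    have hcase : ∀ i j : Fin 4, i ≠ j → ¬ (i = 0 ∨ i = 1) → ¬ (j = 0 ∨ j = 1) → (i = 2 ∧ j = 3) ∨ (i = 3 ∧ j = 2) := by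
      decide
    rcases hcase i j hij hi hj with ⟨rfl, rfl⟩ | ⟨rfl, rfl⟩
    · have := h32c b a
      rw [hs2, hs3] at this
      exact this.symm
    · have := h32c a b
      rw [hs2, hs3] at this
      exact this
  have hcomm : Pairwise fun i j => ∀ (a : (Fx φ ((rest i).length + 1))ˣ) (b : (Fx φ ((rest j).length + 1))ˣ),
      Commute (((t i).comp dgHom) a) (((t j).comp dgHom) b) := fun i j hij a b => hcom i j hij a b
  -- a nontrivial element of the kernel
  obtain ⟨x, hx, hx1⟩ : ∃ x ∈ π.ker, x ≠ 1 := by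
    by_contra hcon
    push Not at hcon
    have h5 : π.ker = ⊥ := (Subgroup.eq_bot_iff_forall _).2 hcon
    rw [h5, Subgroup.card_bot] at h3
    exact absurd h3 (by norm_num)
  have hx' : x ∈ (MonoidHom.noncommPiCoprod (fun i => (t i).comp dgHom) hcomm).range := by
    rw [MonoidHom.noncommPiCoprod_range, ← hT, Subgroup.mem_comap]
    rw [MonoidHom.mem_ker] at hx
    rw [hx]
    exact one_mem _
  obtain ⟨u, hu⟩ := hx'
  have hsingle : ∀ i (a : (Fx φ ((rest i).length + 1))ˣ), MonoidHom.noncommPiCoprod (fun i => (t i).comp dgHom) hcomm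
      (Pi.mulSingle i a) = t i (dg a) := by
    intro i a
    rw [MonoidHom.noncommPiCoprod_mulSingle]
    rfl
  have hu1 : u = Pi.mulSingle 0 (u 0) * Pi.mulSingle 1 (u 1) * Pi.mulSingle 2 (u 2) * Pi.mulSingle 3 (u 3) := by
    rw [← Fin.prod_univ_four (fun i => Pi.mulSingle i (u i)), Finset.univ_prod_mulSingle]
  rw [hu1, map_mul, map_mul, map_mul, hsingle, hsingle, hsingle, hsingle] at hu
  have hx2 : π x = 1 := hx
  rw [← hu, map_mul, map_mul, map_mul, ht', ht', ht', ht'] at hx2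
  obtain ⟨e0, e1, e2⟩ := ker_tor hφ hqq (t0 := u 0) (t1 := u 1) (t2 := u 2) (t3 := u 3) hx2
  obtain ⟨v, hv⟩ : ∃ v : (Fx φ 2)ˣ, v = u 3 := ⟨_, rfl⟩
  have h9 : x = s3 (dg v) * (s2 (dg v))⁻¹ := by
    rw [← hu]
    have k0 : t 0 (dg (u 0)) = 1 := by
      have : u 0 = 1 := e0
      rw [this, Cfsg.Agent.OddHalf.NI.Mult.dg_one, map_one]
    have k1 : t 1 (dg (u 1)) = 1 := by
      have : u 1 = 1 := e1
      rw [this, Cfsg.Agent.OddHalf.NI.Mult.dg_one, map_one]
    have k2 : t 2 (dg (u 2)) = (s2 (dg v))⁻¹ := by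
      have h7 : (u 2 : (Fx φ 2)ˣ) = v⁻¹ := by rw [hv]; exact e2
      have h8 : s2 (dg (u 2 : (Fx φ 2)ˣ)) = (s2 (dg v))⁻¹ := by
        rw [h7, ← map_inv, ← Cfsg.Agent.OddHalf.NI.Mult.dg_inv]
      rw [← h8, hs2]
      rfl
    have k3 : t 3 (dg (u 3)) = s3 (dg v) := by
      rw [hs3, hv]
      rfl
    rw [k0, k1, k2, k3, one_mul, one_mul]
    have h8 : Commute (s2 (dg v)) (s3 (dg v)) := (h32c v v).symm
    exact h8.inv_left.eq
  have hv1 : v ≠ 1 := by
    intro h5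
    rw [h5, Cfsg.Agent.OddHalf.NI.Mult.dg_one, map_one, map_one] at h9
    exact hx1 (by rw [h9]; group)
  -- the action
  obtain ⟨b, hb⟩ : ∃ b, b = s3 (dg v) := ⟨_, rfl⟩
  obtain ⟨a, ha⟩ : ∃ a, a = s2 (dg v) := ⟨_, rfl⟩
  rw [← ha, ← hb] at h9
  have hxc : ∀ y, y * x = x * y := Subgroup.mem_center_iff.1 (hc hx)
  have hab : a = b * x⁻¹ := by
    have h10 : x * a = b := by rw [h9]; group
    have h11 : a * x = b := by rw [hxc]; exact h10
    rw [← h11]; group
  have hb3 : b * b * b = 1 := by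
    have h10 : v ^ 3 = 1 := by
      have h11 : Nat.card (Fx φ 2)ˣ ∣ 3 := by
        have h12 : Nat.card (Fx φ 2) = 4 := by
          have h5 : (Fx φ 2) = ⊤ := by
            rw [eq_top_iff]
            intro y _
            rw [mem_Fx]
            change φ (φ y) = y
            rw [hφ, hφ, hqq]
          rw [h5, ← hK, ← Nat.card_eq_fintype_card]
          exact Nat.card_congr Subfield.topEquiv.toEquiv
        rw [Nat.card_units, h12]
      have h13 : v ^ Nat.card (Fx φ 2)ˣ = 1 := pow_card_eq_one'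
      obtain ⟨k, hk⟩ := h11
      rw [hk, pow_mul, h13, one_pow]
    have h14 : dg v * dg v * dg v = (1 : SL(2, Fx φ 2)) := by
      have h15 := congrArg (dgHom (F := Fx φ 2)) h10
      rw [map_pow, map_one] at h15
      rw [← h15, pow_succ, pow_two]
      rfl
    rw [hb, ← map_mul, ← map_mul, h14, map_one]
  have m3 : s3 (nn 1) * b * (s3 (nn 1))⁻¹ = b⁻¹ := by
    rw [hb, ← map_mul, ← map_inv, ← map_mul, nn_dg, map_inv]
  have m2 : s2 (nn 1) * b * (s2 (nn 1))⁻¹ = b⁻¹ * x⁻¹ := by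
    have g1 := h32 v (nn 1)
    rw [cj2_nn, map_mul, Cfsg.Agent.OddHalf.NI.Mult.dg_inv, map_inv, ← hb, ← ha] at g1
    obtain ⟨w, hw⟩ : ∃ w, w = s2 (nn 1) := ⟨_, rfl⟩
    rw [← hw] at g1 ⊢
    -- `b w b⁻¹ = a⁻¹ w`
    have g2 : w * b * w⁻¹ = a * b := by
      have g3 : w = a * (b * w * b⁻¹) := by rw [g1]; group
      have hcomab : a * b = b * a := by rw [ha, hb]; exact (h32c v v).symm
      have g4 : w * b = a * b * w := by
        calc w * b = a * (b * w * b⁻¹) * b := by rw [← g3]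
          _ = a * b * w := by group
      rw [g4]; group
    have g5 : b⁻¹ = b * b := inv_eq_of_mul_eq_one_left (by rw [← hb3])
    have g6 : x⁻¹ * b = b * x⁻¹ := by
      calc x⁻¹ * b = x⁻¹ * (b * x) * x⁻¹ := by group
        _ = x⁻¹ * (x * b) * x⁻¹ := by rw [hxc]
        _ = b * x⁻¹ := by group
    rw [g2, hab, g5]
    calc b * x⁻¹ * b = b * (x⁻¹ * b) := by group
      _ = b * b * x⁻¹ := by rw [g6]; group
  refine ⟨(om.map fun i => t i (nn 1)).prod, ?_, x⁻¹, inv_mem hx, inv_ne_one.2 hx1, v, hv1, b, ?_, ?_⟩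
  · have key : ∀ ω : List (Fin 4), Rp CoxeterMatrix.F₄.toCoxeterSystem R.nsys
        (CoxeterMatrix.F₄.toCoxeterSystem.wordProd ω) (π (ω.map fun i => t i (nn 1)).prod) := by
      intro ω
      induction ω with
      | nil => rw [wordProd_nil, List.map_nil, List.prod_nil, map_one]; exact rp_one
      | cons i ω ih =>
        rw [wordProd_cons, List.map_cons, List.prod_cons, map_mul, ht']
        exact (Cfsg.Agent.OddHalf.NI.Mult.rp_nn R C i 1).mul ih
    exact key om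
  · rw [hb, hq3]
  · have hbT : b ∈ (T K 2).comap π := by
      rw [Subgroup.mem_comap, hb, hq3]
      exact Cfsg.Agent.OddHalf.NI.Mult.dg_mem_T R C 3 v
    have m0 : t 0 (nn 1) * b * (t 0 (nn 1))⁻¹ = b := by
      have g1 := tor_two R' C' (i := 0) (htwo 0 (Or.inl rfl)) hbT (nn 1)
      calc t 0 (nn 1) * b * (t 0 (nn 1))⁻¹ = (b * t 0 (nn 1) * b⁻¹) * b * (t 0 (nn 1))⁻¹ := by rw [g1]
        _ = b := by group
    have m1 : t 1 (nn 1) * b * (t 1 (nn 1))⁻¹ = b := by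
      have g1 := tor_two R' C' (i := 1) (htwo 1 (Or.inr rfl)) hbT (nn 1)
      calc t 1 (nn 1) * b * (t 1 (nn 1))⁻¹ = (b * t 1 (nn 1) * b⁻¹) * b * (t 1 (nn 1))⁻¹ := by rw [g1]
        _ = b := by group
    have g2 := act_word (m := fun i => t i (nn 1)) hxc m0 m1 (by rw [hs2] at m2; exact m2) (by rw [hs3] at m3; exact m3) om
    rw [st_om] at g2
    rw [g2]
    change b ^ (1 : ℤ) * x ^ (-1 : ℤ) = b * x⁻¹
    rw [zpow_one, zpow_neg_one]

end Cfsg.Agent.H584.F4.Fus
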